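import Mathlib
import Cfsg.Agent.Lib.Transfer.SmallSylow
import Cfsg.Prelude.Def_Transfer

/-!
Abelian Sylow subgroups of small rank.
-/

universe u

namespace Cfsg.Agent.Lib.AbelianSylow

open Subgroup

variable {p : ℕ} [hp : Fact p.Prime]

/-- An automorphism of prime order `r ≠ p` of an abelian `p`-group of rank `d` needs
`r ∣ p ^ i - 1` with `1 ≤ i ≤ d`. -/
theorem exists_dvd_pow_sub_one_of_rank {A : Type u} [CommGroup A] [Finite A] (hA : IsPGroup p A)
    {r : ℕ} (hr : r.Prime) (hrp : r ≠ p) (β : MulAut A) (hβ : orderOf β = r) :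
    ∃ i, 1 ≤ i ∧ i ≤ Group.rank A ∧ r ∣ p ^ i - 1 := by
  set f : A →* A := powMonoidHom p
  -- the elements killed by `p`
  have hΩ : ∀ a, a ∈ f.ker ↔ a ^ p = 1 := fun a => Iff.rfl
  let γ : MulAut f.ker :=
    { toFun := fun a => ⟨β a.1, (hΩ _).mpr (by rw [← map_pow, (hΩ _).mp a.2, map_one])⟩
      invFun := fun a => ⟨β.symm a.1, (hΩ _).mpr (by rw [← map_pow, (hΩ _).mp a.2, map_one])⟩
      left_inv := fun a => Subtype.ext (β.symm_apply_apply _)
      right_inv := fun a => Subtype.ext (β.apply_symm_apply _)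
      map_mul' := fun a b => Subtype.ext (map_mul β a.1 b.1) }
  have hγr : γ ^ r = 1 := by
    have hpow : ∀ k : ℕ, ∀ a : f.ker, ((γ ^ k) a : A) = (β ^ k) a.1 := by
      intro k
      induction k with
      | zero => intro a; rfl
      | succ k ih =>
        intro a
        rw [pow_succ', pow_succ', MulAut.mul_apply, MulAut.mul_apply, ← ih a]
        rfl
    exact MulEquiv.ext fun a => Subtype.ext (by rw [hpow, ← hβ, pow_orderOf_eq_one]; rfl)
  have hγ1 : γ ≠ 1 := by
    intro h1
    have hfix : ∀ a : A, a ^ p = 1 → β a = a := fun a ha =>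
      congrArg Subtype.val (DFunLike.congr_fun h1 ⟨a, (hΩ a).mpr ha⟩)
    have hall : ∀ k : ℕ, ∀ a : A, a ^ p ^ k = 1 → β a = a := by
      intro k
      induction k with
      | zero =>
        intro a ha
        rw [pow_zero, pow_one] at ha
        rw [ha, map_one]
      | succ k ih =>
        intro a ha
        have h2 : β (a ^ p) = a ^ p := ih _ (by rw [← pow_mul, ← pow_succ']; exact ha)
        have hu : (a⁻¹ * β a) ^ p = 1 := by
          rw [mul_pow, inv_pow, ← map_pow, h2, inv_mul_cancel]
        have hu2 : β (a⁻¹ * β a) = a⁻¹ * β a := hfix _ hu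
        have hit : ∀ j : ℕ, (β ^ j) a = a * (a⁻¹ * β a) ^ j := by
          intro j
          induction j with
          | zero => simp
          | succ j ihj =>
            rw [pow_succ', MulAut.mul_apply, ihj, map_mul, map_pow, hu2, pow_succ', ← mul_assoc]
            congr 1
            rw [mul_inv_cancel_left]
        have h3 := hit r
        rw [← hβ, pow_orderOf_eq_one, MulAut.one_apply, left_eq_mul, hβ] at h3
        have h4 : a⁻¹ * β a = 1 := orderOf_eq_one_iff.mp (Nat.eq_one_of_dvd_coprimes
          ((Nat.coprime_primes hr hp.out).mpr hrp)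
          (orderOf_dvd_of_pow_eq_one h3) (orderOf_dvd_of_pow_eq_one hu))
        rw [inv_mul_eq_one] at h4
        exact h4.symm
    have : β = 1 := MulEquiv.ext fun a => by
      obtain ⟨k, hk⟩ := hA a
      exact hall k a hk
    rw [this, orderOf_one] at hβ
    exact hr.one_lt.ne hβ
  haveI := Fact.mk hr
  have hγo : orderOf γ = r := orderOf_eq_prime hγr hγ1
  -- its order is at most `p ^ rank`
  obtain ⟨k, hk⟩ := IsPGroup.iff_card.mp (hA.to_subgroup f.ker)
  have hk2 : k ≤ Group.rank A := by
    have h1 : Nat.card f.ker = Nat.card (A ⧸ f.range) := by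
      rw [← f.range.index_eq_card]
      refine Nat.eq_of_mul_eq_mul_right (Nat.card_pos (α := f.range)) ?_
      rw [f.range.index_mul_card, ← Nat.card_congr (QuotientGroup.quotientKerEquivRange f).toEquiv,
        mul_comm, ← Subgroup.card_eq_card_quotient_mul_card_subgroup]
    have h2 : Nat.card (A ⧸ f.range) ∣ p ^ Group.rank (A ⧸ f.range) := card_dvd_exponent_pow_rank' _ fun q => by
      obtain ⟨a, rfl⟩ := QuotientGroup.mk'_surjective f.range q
      rw [← map_pow]
      exact (QuotientGroup.eq_one_iff _).mpr ⟨a, rfl⟩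
    rw [← h1, hk, Nat.pow_dvd_pow_iff_le_right hp.out.one_lt] at h2
    exact h2.trans (Group.rank_le_of_surjective (QuotientGroup.mk' f.range) (QuotientGroup.mk'_surjective _))
  obtain ⟨i, h1, h2, h3⟩ := Cfsg.Agent.Lib.Transfer.exists_dvd_pow_sub_one_of_mulAut
    (hA.to_subgroup f.ker) hk hr hrp γ hγo
  exact ⟨i, h1, h2.trans hk2, h3⟩

/-- An abelian Sylow subgroup of rank `d` has a normal complement unless another prime divisor of
the group order divides some `p ^ i - 1`, `1 ≤ i ≤ d`. -/
theorem hasNormalPComplement_of_rank {G : Type u} [Group G] [Finite G] (P : Sylow p G)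
    (hP : IsMulCommutative (P : Subgroup G))
    (h : ∀ r : ℕ, r.Prime → r ∣ Nat.card G → r ≠ p →
      ∀ i, 1 ≤ i → i ≤ Group.rank (P : Subgroup G) → ¬ r ∣ p ^ i - 1) :
    Cfsg.HasNormalPComplement p G := by
  have hPc : (P : Subgroup G) ≤ Subgroup.centralizer ((P : Subgroup G) : Set G) := fun a ha =>
    Subgroup.mem_centralizer_iff.mpr fun b hb =>
      congrArg Subtype.val (hP.is_comm.comm ⟨b, hb⟩ ⟨a, ha⟩)
  refine ⟨P, _, inferInstance, MonoidHom.ker_transferSylow_isComplement' P fun n hn => ?_⟩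
  set f := (P : Subgroup G).normalizerMonoidHom
  by_contra hnc
  have hne : Nat.card f.range ≠ 1 := fun h1 => hnc (by
    have hn' : (⟨n, hn⟩ : Subgroup.normalizer ((P : Subgroup G) : Set G)) ∈ f.ker := by
      rw [MonoidHom.range_eq_bot_iff.mp (Subgroup.card_eq_one.mp h1)]; rfl
    rw [normalizerMonoidHom_ker] at hn'
    exact hn')
  obtain ⟨r, hr, hrd⟩ := Nat.exists_prime_and_dvd hne
  haveI := Fact.mk hr
  obtain ⟨β, hβ⟩ := exists_prime_orderOf_dvd_card' r hrd
  have hker : (P : Subgroup G).subgroupOf (Subgroup.normalizer ((P : Subgroup G) : Set G)) ≤ f.ker := by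
    rw [normalizerMonoidHom_ker]
    exact Subgroup.comap_mono hPc
  have hrP : r ∣ (P : Subgroup G).index :=
    (hrd.trans (by rw [← index_ker]; exact index_dvd_of_le hker)).trans
      (relIndex_dvd_index_of_le le_normalizer)
  have hrp : r ≠ p := fun he => P.not_dvd_index (he ▸ hrP)
  letI : CommGroup (P : Subgroup G) :=
    { (inferInstance : Group (P : Subgroup G)) with mul_comm := fun a b => hP.is_comm.comm a b }
  obtain ⟨i, h1, h2, h3⟩ := exists_dvd_pow_sub_one_of_rank P.isPGroup' hr hrp (β : MulAut (P : Subgroup G))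
    (by rw [Subgroup.orderOf_coe, hβ])
  exact h r hr (hrP.trans (index_dvd_card _)) hrp i h1 h2 h3

end Cfsg.Agent.Lib.AbelianSylow
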